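import Mathlib
import Cfsg.Prelude.Def_SporadicB

/-!
# The double cover `2·A₈` as a subgroup of `GL₁₆(𝔽₃) × S₈`

We use eight anticommuting signed permutation matrices `e i` of size 16 over `𝔽₃` with `e i ^ 2 = 1`
(a Clifford module). The group consists of pairs `(x, σ)` with `σ` even and
`x e_i x⁻¹ = e_{σ i}`. Their commutant is the scalars, so the kernel of `(x, σ) ↦ σ` is `{±1}`.
-/

set_option autoImplicit false

namespace Cfsg.Agent.Lib.DoubleCover.TwoA8

open Equiv Equiv.Perm

/-- The matrix ring used. -/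
abbrev Mat := Matrix (Fin 16) (Fin 16) (ZMod 3)

/-- Permutation parts of the matrices `e i`. -/
def P : Fin 8 → Fin 16 → Fin 16 :=
  ![![0, 1, 2, 3, 4, 5, 6, 7, 8, 9, 10, 11, 12, 13, 14, 15],
    ![1, 0, 3, 2, 5, 4, 7, 6, 9, 8, 11, 10, 13, 12, 15, 14],
    ![3, 2, 1, 0, 7, 6, 5, 4, 11, 10, 9, 8, 15, 14, 13, 12],
    ![5, 4, 7, 6, 1, 0, 3, 2, 13, 12, 15, 14, 9, 8, 11, 10],
    ![7, 6, 5, 4, 3, 2, 1, 0, 15, 14, 13, 12, 11, 10, 9, 8],
    ![9, 8, 11, 10, 13, 12, 15, 14, 1, 0, 3, 2, 5, 4, 7, 6],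
    ![11, 10, 9, 8, 15, 14, 13, 12, 3, 2, 1, 0, 7, 6, 5, 4],
    ![13, 12, 15, 14, 9, 8, 11, 10, 5, 4, 7, 6, 1, 0, 3, 2]]

/-- Sign parts of the matrices `e i`. -/
def S : Fin 8 → Fin 16 → ZMod 3 :=
  ![![1, -1, 1, -1, 1, -1, 1, -1, 1, -1, 1, -1, 1, -1, 1, -1],
    ![1, 1, 1, 1, 1, 1, 1, 1, 1, 1, 1, 1, 1, 1, 1, 1],
    ![1, -1, -1, 1, 1, -1, -1, 1, 1, -1, -1, 1, 1, -1, -1, 1],
    ![1, -1, -1, 1, -1, 1, 1, -1, 1, -1, -1, 1, -1, 1, 1, -1],
    ![1, -1, 1, -1, -1, 1, -1, 1, -1, 1, -1, 1, 1, -1, 1, -1],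
    ![1, -1, -1, 1, -1, 1, 1, -1, -1, 1, 1, -1, 1, -1, -1, 1],
    ![1, -1, 1, -1, 1, -1, 1, -1, -1, 1, -1, 1, -1, 1, -1, 1],
    ![1, -1, -1, 1, 1, -1, -1, 1, -1, 1, 1, -1, -1, 1, 1, -1]]

/-- Witnesses: `a = P (w a 0) (P (w a 1) (P (w a 2) (P (w a 3) 0)))`. -/
def W : Fin 16 → Fin 4 → Fin 8 :=
  ![![0, 0, 0, 0],
    ![1, 0, 0, 0],
    ![1, 2, 0, 0],
    ![0, 2, 0, 0],
    ![1, 0, 3, 0],
    ![0, 0, 3, 0],
    ![0, 2, 3, 0],
    ![1, 2, 3, 0],
    ![1, 0, 0, 5],
    ![0, 0, 0, 5],
    ![0, 2, 0, 5],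
    ![1, 2, 0, 5],
    ![0, 0, 3, 5],
    ![1, 0, 3, 5],
    ![1, 2, 3, 5],
    ![0, 2, 3, 5]]

/-- A signed permutation matrix. -/
def M (p : Fin 16 → Fin 16) (s : Fin 16 → ZMod 3) : Mat :=
  Matrix.of fun a b => if p a = b then s a else 0

/-- The Clifford generators. -/
def e (i : Fin 8) : Mat := M (P i) (S i)

theorem M_apply (p : Fin 16 → Fin 16) (s : Fin 16 → ZMod 3) (a b : Fin 16) :
    M p s a b = if p a = b then s a else 0 := rfl

theorem M_mul (p q : Fin 16 → Fin 16) (s t : Fin 16 → ZMod 3) :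
    M p s * M q t = M (q ∘ p) (fun a => s a * t (p a)) := by
  ext a b
  rw [Matrix.mul_apply, Finset.sum_eq_single (p a)]
  · simp [M_apply]
  · intro c _ hc
    rw [M_apply, if_neg (Ne.symm hc), zero_mul]
  · intro h
    exact absurd (Finset.mem_univ _) h

theorem one_eq_M : (1 : Mat) = M id (fun _ => 1) := by
  ext a b
  rw [M_apply, Matrix.one_apply]
  rfl

theorem neg_M (p : Fin 16 → Fin 16) (s : Fin 16 → ZMod 3) :
    -M p s = M p (fun a => -s a) := by
  ext a b
  simp only [Matrix.neg_apply, M_apply]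
  split_ifs <;> simp

theorem P_P : ∀ i a, P i (P i a) = a := by decide
theorem S_S : ∀ i a, S i a * S i (P i a) = 1 := by decide
theorem P_comm : ∀ i j a, P j (P i a) = P i (P j a) := by decide
theorem S_anti : ∀ i j, i ≠ j → ∀ a, S i a * S j (P i a) = -(S j a * S i (P j a)) := by decide
theorem P_zero : ∀ a, P 0 a = a := by decide
theorem S_ne : ∀ i a, S i a ≠ 0 := by decide
theorem W_spec : ∀ a, P (W a 0) (P (W a 1) (P (W a 2) (P (W a 3) 0))) = a := by decide

theorem e_sq (i : Fin 8) : e i * e i = 1 := by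
  rw [e, M_mul, one_eq_M]
  congr 1
  · funext a
    exact P_P i a
  · funext a
    exact S_S i a

theorem e_anti {i j : Fin 8} (h : i ≠ j) : e i * e j = -(e j * e i) := by
  rw [e, e, M_mul, M_mul, neg_M]
  congr 1
  · funext a
    exact P_comm i j a
  · funext a
    exact S_anti i j h a

/-- Products of the generators, as signed permutation matrices. -/
def word (l : List (Fin 8)) : Mat := (l.map e).prod

/-- Permutation part of a word. -/
def Pw : List (Fin 8) → Fin 16 → Fin 16
  | [] => id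
  | i :: l => Pw l ∘ P i

/-- Sign part of a word. -/
def Sw : List (Fin 8) → Fin 16 → ZMod 3
  | [] => fun _ => 1
  | i :: l => fun a => S i a * Sw l (P i a)

theorem word_eq (l : List (Fin 8)) : word l = M (Pw l) (Sw l) := by
  induction l with
  | nil => simpa [word, Pw, Sw] using one_eq_M
  | cons i l ih =>
    have : word (i :: l) = e i * word l := by simp [word]
    rw [this, ih, e, M_mul]
    rfl

/-- The diagonal words. -/
def dl : Fin 4 → List (Fin 8) := ![[0], [0, 1, 2, 3, 4], [0, 1, 2, 5, 6], [0, 1, 3, 5, 7]]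

theorem dl_diag : ∀ j a, Pw (dl j) a = a := by decide
theorem dl_sep : ∀ a b : Fin 16, a ≠ b → ∃ j, Sw (dl j) a ≠ Sw (dl j) b := by decide

theorem comm_word (x : Mat) (hx : ∀ i, x * e i = e i * x) (l : List (Fin 8)) :
    x * word l = word l * x := by
  induction l with
  | nil => simp [word]
  | cons i l ih =>
    have : word (i :: l) = e i * word l := by simp [word]
    rw [this, ← mul_assoc, hx, mul_assoc, ih, mul_assoc]

/-- Commutant: a matrix commuting with all `e i` is a scalar. -/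
theorem scalar_of_comm (x : Mat) (hx : ∀ i, x * e i = e i * x) : x = x 0 0 • (1 : Mat) := by
  have hoff : ∀ a b, a ≠ b → x a b = 0 := by
    intro a b hab
    obtain ⟨j, hj⟩ := dl_sep a b hab
    have h1 := comm_word x hx (dl j)
    have hw : word (dl j) = M id (Sw (dl j)) := by
      rw [word_eq]
      congr 1
      funext c
      exact dl_diag j c
    rw [hw] at h1
    have h2 := congrFun (congrFun h1 a) b
    have hl : (x * M id (Sw (dl j))) a b = x a b * Sw (dl j) b := by
      rw [Matrix.mul_apply, Finset.sum_eq_single b]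
      · simp [M_apply]
      · intro c _ hc
        rw [M_apply, if_neg (by simpa using hc), mul_zero]
      · intro h; exact absurd (Finset.mem_univ _) h
    have hr : (M id (Sw (dl j)) * x) a b = Sw (dl j) a * x a b := by
      rw [Matrix.mul_apply, Finset.sum_eq_single a]
      · simp [M_apply]
      · intro c _ hc
        rw [M_apply, if_neg (by simpa using (Ne.symm hc)), zero_mul]
      · intro h; exact absurd (Finset.mem_univ _) h
    rw [hl, hr] at h2
    have : Fact (Nat.Prime 3) := ⟨Nat.prime_three⟩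
    have h3 : x a b * (Sw (dl j) b - Sw (dl j) a) = 0 := by
      rw [mul_sub, h2]; ring
    rcases mul_eq_zero.mp h3 with h4 | h4
    · exact h4
    · exact absurd (sub_eq_zero.mp h4).symm hj
  have hdiag : ∀ i a, x a a = x (P i a) (P i a) := by
    intro i a
    have h2 := congrFun (congrFun (hx i) a) (P i a)
    have hl : (x * e i) a (P i a) = x a a * S i a := by
      rw [Matrix.mul_apply, Finset.sum_eq_single a]
      · simp [e, M_apply]
      · intro c _ hc
        rw [hoff a c (Ne.symm hc), zero_mul]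
      · intro h; exact absurd (Finset.mem_univ _) h
    have hr : (e i * x) a (P i a) = S i a * x (P i a) (P i a) := by
      rw [Matrix.mul_apply, Finset.sum_eq_single (P i a)]
      · simp [e, M_apply]
      · intro c _ hc
        rw [e, M_apply, if_neg (Ne.symm hc), zero_mul]
      · intro h; exact absurd (Finset.mem_univ _) h
    rw [hl, hr, mul_comm] at h2
    have : Fact (Nat.Prime 3) := ⟨Nat.prime_three⟩
    exact mul_left_cancel₀ (S_ne i a) h2
  have hall : ∀ a, x a a = x 0 0 := by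
    intro a
    have h := W_spec a
    rw [← h, ← hdiag, ← hdiag, ← hdiag, ← hdiag]
  ext a b
  by_cases hab : a = b
  · subst hab
    simp [hall]
  · simp [hoff a b hab, hab]

/-- Sign as an element of `𝔽₃`. -/
def sg (σ : Perm (Fin 8)) : ZMod 3 := ((sign σ : ℤˣ) : ℤ)

theorem sg_one : sg 1 = 1 := by simp [sg]

theorem sg_mul (σ τ : Perm (Fin 8)) : sg (σ * τ) = sg σ * sg τ := by
  simp [sg]

theorem sg_sq (σ : Perm (Fin 8)) : sg σ * sg σ = 1 := by
  rw [← sg_mul, ← sg_one]
  simp [sg, Perm.sign_mul, Int.units_mul_self]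

theorem sg_inv (σ : Perm (Fin 8)) : sg σ⁻¹ = sg σ := by
  simp [sg]

/-- The ambient group. -/
abbrev G0 := GL (Fin 16) (ZMod 3) × Perm (Fin 8)

/-- The extended Clifford group: all pairs `(x, σ)` with `x e_i = sg σ e_{σ i} x`. -/
def Hb : Subgroup G0 where
  carrier := {p | ∀ i, (p.1 : Mat) * e i = sg p.2 • (e (p.2 i) * (p.1 : Mat))}
  one_mem' := by
    intro i
    simp [sg_one]
  mul_mem' := by
    intro p q hp hq i
    simp only [Set.mem_ofPred_eq] at hp hq
    have h1 : ((p * q).1 : Mat) = (p.1 : Mat) * (q.1 : Mat) := rfl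
    have h2 : (p * q).2 = p.2 * q.2 := rfl
    rw [h1, h2, sg_mul, mul_assoc, hq i, Matrix.mul_smul, ← mul_assoc, hp (q.2 i)]
    simp only [Equiv.Perm.mul_apply, smul_smul, Matrix.smul_mul, mul_assoc]
    rw [mul_comm (sg q.2)]
  inv_mem' := by
    intro p hp i
    simp only [Set.mem_ofPred_eq] at hp
    have h := hp (p.2⁻¹ i)
    rw [show p.2 (p.2⁻¹ i) = i from Equiv.apply_symm_apply p.2 i] at h
    have hu : ((p.1)⁻¹ : GL (Fin 16) (ZMod 3)).val * (p.1 : Mat) = 1 :=
      (Units.inv_mul p.1)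
    have hu' : (p.1 : Mat) * ((p.1)⁻¹ : GL (Fin 16) (ZMod 3)).val = 1 :=
      (Units.mul_inv p.1)
    have h2 : (p⁻¹).1 = (p.1)⁻¹ := rfl
    have h3 : (p⁻¹).2 = (p.2)⁻¹ := rfl
    rw [h2, h3, sg_inv]
    -- multiply `h` by `x⁻¹` on both sides
    have h4 : e (p.2⁻¹ i) * ((p.1)⁻¹ : GL (Fin 16) (ZMod 3)).val =
        sg p.2 • (((p.1)⁻¹ : GL (Fin 16) (ZMod 3)).val * e i) := by
      calc e (p.2⁻¹ i) * ((p.1)⁻¹ : GL (Fin 16) (ZMod 3)).val
          = (((p.1)⁻¹ : GL (Fin 16) (ZMod 3)).val * (p.1 : Mat)) * e (p.2⁻¹ i) *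
              ((p.1)⁻¹ : GL (Fin 16) (ZMod 3)).val := by rw [hu, one_mul]
        _ = ((p.1)⁻¹ : GL (Fin 16) (ZMod 3)).val * ((p.1 : Mat) * e (p.2⁻¹ i)) *
              ((p.1)⁻¹ : GL (Fin 16) (ZMod 3)).val := by rw [mul_assoc (((p.1)⁻¹ : GL (Fin 16) (ZMod 3)).val)]
        _ = ((p.1)⁻¹ : GL (Fin 16) (ZMod 3)).val * (sg p.2 • (e i * (p.1 : Mat))) *
              ((p.1)⁻¹ : GL (Fin 16) (ZMod 3)).val := by rw [h]
        _ = sg p.2 • (((p.1)⁻¹ : GL (Fin 16) (ZMod 3)).val * e i *
              ((p.1 : Mat) * ((p.1)⁻¹ : GL (Fin 16) (ZMod 3)).val)) := by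
            simp only [Matrix.mul_smul, Matrix.smul_mul, mul_assoc]
        _ = sg p.2 • (((p.1)⁻¹ : GL (Fin 16) (ZMod 3)).val * e i) := by rw [hu', mul_one]
    rw [h4, smul_smul, sg_sq, one_smul]


/-- The difference of two generators. -/
def v (i j : Fin 8) : Mat := e i - e j

theorem two_eq : (1 : Mat) + 1 = -1 := by
  ext a b
  by_cases h : a = b
  · subst h
    simp only [Matrix.add_apply, Matrix.one_apply_eq, Matrix.neg_apply]
    decide
  · simp [h]

theorem v_sq {i j : Fin 8} (h : i ≠ j) : v i j * v i j = -1 := by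
  rw [v, sub_mul, mul_sub, mul_sub, e_sq, e_sq, e_anti h, ← two_eq]
  abel

theorem v_anti {i j k l : Fin 8} (hik : i ≠ k) (hil : i ≠ l) (hjk : j ≠ k) (hjl : j ≠ l) :
    v i j * v k l = -(v k l * v i j) := by
  simp only [v, sub_mul, mul_sub]
  rw [e_anti hik, e_anti hil, e_anti hjk, e_anti hjl]
  abel

theorem v_conj {i j : Fin 8} (h : i ≠ j) (k : Fin 8) :
    v i j * e k = -(e (swap i j k) * v i j) := by
  by_cases hki : k = i
  · subst hki
    rw [swap_apply_left, v, sub_mul, mul_sub, e_sq, e_sq]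
    abel
  by_cases hkj : k = j
  · subst hkj
    rw [swap_apply_right, v, sub_mul, mul_sub, e_sq, e_sq]
    rw [e_anti h]
    abel
  rw [swap_apply_of_ne_of_ne hki hkj, v, sub_mul, mul_sub, e_anti (Ne.symm hki), e_anti (Ne.symm hkj)]
  abel

/-- `v i j` as a unit. -/
def vGL (i j : Fin 8) (h : i ≠ j) : GL (Fin 16) (ZMod 3) :=
  ⟨v i j, -v i j, by rw [mul_neg, v_sq h, neg_neg], by rw [neg_mul, v_sq h, neg_neg]⟩

theorem vGL_mem (i j : Fin 8) (h : i ≠ j) : (vGL i j h, swap i j) ∈ Hb := by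
  intro k
  have hs : sg (swap i j) = -1 := by
    simp [sg, sign_swap h]
  change v i j * e k = sg (swap i j) • (e (swap i j k) * v i j)
  rw [v_conj h, hs]
  simp

/-- The double cover. -/
def H : Subgroup G0 := Hb ⊓ (alternatingGroup (Fin 8)).comap (MonoidHom.snd _ _)

/-- The covering map. -/
def π : H →* alternatingGroup (Fin 8) where
  toFun p := ⟨p.1.2, p.2.2⟩
  map_one' := rfl
  map_mul' _ _ := rfl

theorem π_surjective : Function.Surjective π := by
  rintro ⟨σ, hσ⟩
  -- every permutation has a lift to `Hb`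
  have hlift : ∀ τ : Perm (Fin 8), ∃ x : GL (Fin 16) (ZMod 3), (x, τ) ∈ Hb := by
    have hrange : (Hb.map (MonoidHom.snd _ _)) = ⊤ := by
      rw [eq_top_iff, ← closure_isSwap, Subgroup.closure_le]
      rintro τ ⟨i, j, hij, rfl⟩
      exact ⟨(vGL i j hij, swap i j), vGL_mem i j hij, rfl⟩
    intro τ
    have : τ ∈ Hb.map (MonoidHom.snd _ _) := by rw [hrange]; exact Subgroup.mem_top _
    obtain ⟨⟨x, τ'⟩, hx, rfl⟩ := this
    exact ⟨x, hx⟩
  obtain ⟨x, hx⟩ := hlift σ
  exact ⟨⟨(x, σ), hx, hσ⟩, rfl⟩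

/-- The central element `(-1, 1)`. -/
def zeta : H := ⟨(-1, 1), by
  refine Subgroup.mem_inf.mpr ⟨?_, Subgroup.mem_comap.mpr (one_mem _)⟩
  intro i
  simp [sg_one]⟩

theorem zeta_ne_one : zeta ≠ 1 := by
  intro h
  have h1 := congrArg (fun p : H => ((p.1.1 : GL (Fin 16) (ZMod 3)) : Mat) 0 0) h
  have h2 : ((((zeta : H).1.1 : GL (Fin 16) (ZMod 3)) : Mat) 0 0) = (-1 : ZMod 3) := by
    simp [zeta]
  have h3 : ((((1 : H).1.1 : GL (Fin 16) (ZMod 3)) : Mat) 0 0) = (1 : ZMod 3) := by
    simp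
  rw [h2, h3] at h1
  exact absurd h1 (by decide)

theorem zeta_sq : zeta * zeta = 1 := by
  apply Subtype.ext
  apply Prod.ext
  · apply Units.ext
    change ((-1 : GL (Fin 16) (ZMod 3)) : Mat) * ((-1 : GL (Fin 16) (ZMod 3)) : Mat) = 1
    simp
  · rfl

theorem ker_eq (p : H) (h : π p = 1) : p = 1 ∨ p = zeta := by
  have h2 : p.1.2 = 1 := congrArg Subtype.val h
  have hcomm : ∀ i, ((p.1.1 : GL (Fin 16) (ZMod 3)) : Mat) * e i = e i * ((p.1.1 : GL (Fin 16) (ZMod 3)) : Mat) := by
    intro i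
    have := p.2.1 i
    rw [h2, sg_one, one_smul] at this
    simpa using this
  have hs := scalar_of_comm _ hcomm
  set c := ((p.1.1 : GL (Fin 16) (ZMod 3)) : Mat) 0 0 with hc
  have hc0 : c ≠ 0 := by
    intro h0
    rw [h0, zero_smul] at hs
    have hu := (p.1.1).mul_inv
    rw [hs, zero_mul] at hu
    have : (0 : Mat) 0 0 = (1 : Mat) 0 0 := by rw [hu]
    simp at this
  have hcases : ∀ x : ZMod 3, x ≠ 0 → x = 1 ∨ x = -1 := by decide
  rcases hcases c hc0 with h1 | h1
  · left
    apply Subtype.ext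
    apply Prod.ext
    · apply Units.ext
      rw [hs, h1, one_smul]
      rfl
    · exact h2
  · right
    apply Subtype.ext
    apply Prod.ext
    · apply Units.ext
      rw [hs, h1]
      simp [zeta]
    · exact h2

theorem zeta_mem_center : zeta ∈ Subgroup.center H := by
  rw [Subgroup.mem_center_iff]
  intro q
  apply Subtype.ext
  apply Prod.ext
  · apply Units.ext
    change ((q.1.1 : GL (Fin 16) (ZMod 3)) : Mat) * ((-1 : GL (Fin 16) (ZMod 3)) : Mat) =
      ((-1 : GL (Fin 16) (ZMod 3)) : Mat) * ((q.1.1 : GL (Fin 16) (ZMod 3)) : Mat)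
    simp
  · change q.1.2 * 1 = 1 * q.1.2
    simp

theorem π_zeta : π zeta = 1 := rfl

theorem center_eq_ker : Subgroup.center H = π.ker := by
  apply le_antisymm
  · intro p hp
    rw [MonoidHom.mem_ker]
    have h1 : π p ∈ Subgroup.center (alternatingGroup (Fin 8)) := by
      rw [Subgroup.mem_center_iff]
      intro g
      obtain ⟨g', rfl⟩ := π_surjective g
      rw [← map_mul, ← map_mul, (Subgroup.mem_center_iff.mp hp) g']
    rw [alternatingGroup.center_eq_bot (by simp)] at h1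
    exact h1
  · intro p hp
    rcases ker_eq p hp with rfl | rfl
    · exact one_mem _
    · exact zeta_mem_center

theorem center_cases (p : H) (hp : p ∈ Subgroup.center H) : p = 1 ∨ p = zeta :=
  ker_eq p (by rw [center_eq_ker] at hp; exact hp)

theorem card_center : Nat.card (Subgroup.center H) = 2 := by
  rw [Nat.card_eq_two_iff]
  refine ⟨1, ⟨zeta, zeta_mem_center⟩, ?_, ?_⟩
  · intro h
    exact zeta_ne_one (congrArg Subtype.val h).symm
  · ext ⟨p, hp⟩
    simp only [Set.mem_insert_iff, Set.mem_singleton_iff, Set.mem_univ, iff_true]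
    rcases center_cases p hp with rfl | rfl
    · left; rfl
    · right; rfl

/-- The lift of a product of two disjoint transpositions. -/
def lift2 (i j k l : Fin 8) (hij : i ≠ j) (hkl : k ≠ l) : H :=
  ⟨(vGL i j hij, swap i j) * (vGL k l hkl, swap k l),
    mul_mem (vGL_mem i j hij) (vGL_mem k l hkl),
    mul_mem_alternatingGroup_of_isSwap ⟨i, j, hij, rfl⟩ ⟨k, l, hkl, rfl⟩⟩

theorem lift2_sq {i j k l : Fin 8} (hij : i ≠ j) (hkl : k ≠ l) (hik : i ≠ k) (hil : i ≠ l)
    (hjk : j ≠ k) (hjl : j ≠ l) : lift2 i j k l hij hkl * lift2 i j k l hij hkl = zeta := by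
  apply Subtype.ext
  apply Prod.ext
  · apply Units.ext
    change (v i j * v k l) * (v i j * v k l) = ((-1 : GL (Fin 16) (ZMod 3)) : Mat)
    calc (v i j * v k l) * (v i j * v k l) = v i j * (v k l * v i j) * v k l := by
          simp only [mul_assoc]
      _ = v i j * (-(v i j * v k l)) * v k l := by
          rw [v_anti hik hil hjk hjl, neg_neg]
      _ = -((v i j * v i j) * (v k l * v k l)) := by
          simp only [mul_neg, neg_mul, mul_assoc]
      _ = ((-1 : GL (Fin 16) (ZMod 3)) : Mat) := by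
          rw [v_sq hij, v_sq hkl]
          simp
  · change (swap i j * swap k l) * (swap i j * swap k l) = 1
    have hd : Disjoint (swap i j) (swap k l) := by
      intro x
      by_cases hxi : x = i
      · subst hxi
        right
        exact swap_apply_of_ne_of_ne hik hil
      by_cases hxj : x = j
      · subst hxj
        right
        exact swap_apply_of_ne_of_ne hjk hjl
      left
      exact swap_apply_of_ne_of_ne hxi hxj
    calc (swap i j * swap k l) * (swap i j * swap k l)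
        = swap i j * (swap k l * swap i j) * swap k l := by simp only [mul_assoc]
      _ = swap i j * (swap i j * swap k l) * swap k l := by rw [hd.commute.eq]
      _ = (swap i j * swap i j) * (swap k l * swap k l) := by simp only [mul_assoc]
      _ = 1 := by rw [swap_mul_self, swap_mul_self, one_mul]

theorem not_split (L : Subgroup H) : ¬ (Subgroup.center H).IsComplement' L := by
  intro hL
  have hd := hL.disjoint
  -- write the lift as a product
  let x0 := lift2 0 1 2 3 (by decide) (by decide)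
  have hx0 : x0 * x0 = zeta := lift2_sq _ _ (by decide) (by decide) (by decide) (by decide)
  obtain ⟨⟨z, ℓ⟩, hzℓ⟩ := hL.2 x0
  have hzℓ' : (z : H) * (ℓ : H) = x0 := hzℓ
  have hz : (z : H) * (z : H) = 1 := by
    rcases center_cases z z.2 with h | h
    · rw [h, one_mul]
    · rw [h, zeta_sq]
  have hcomm : ∀ a : H, (z : H) * a = a * (z : H) := fun a =>
    ((Subgroup.mem_center_iff.mp z.2) a).symm
  have hℓ : (ℓ : H) * (ℓ : H) = zeta := by
    rw [← hx0, ← hzℓ']
    calc (ℓ : H) * (ℓ : H) = ((z : H) * (z : H)) * ((ℓ : H) * (ℓ : H)) := by rw [hz, one_mul]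
      _ = (z : H) * ((z : H) * ℓ) * ℓ := by simp only [mul_assoc]
      _ = (z : H) * (ℓ * (z : H)) * ℓ := by rw [hcomm (ℓ : H)]
      _ = _ := by simp only [mul_assoc]
  have hmem : zeta ∈ L := by
    rw [← hℓ]
    exact mul_mem ℓ.2 ℓ.2
  have := Subgroup.disjoint_def.mp hd zeta_mem_center hmem
  exact zeta_ne_one this

/-- The involution `(01)(23)(45)(67)` lifted to `H`. -/
noncomputable def inv1 : H := lift2 0 1 2 3 (by decide) (by decide) * lift2 4 5 6 7 (by decide) (by decide)

theorem lift2_comm : Commute (lift2 0 1 2 3 (by decide) (by decide)) (lift2 4 5 6 7 (by decide) (by decide)) := by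
  apply Subtype.ext
  apply Prod.ext
  · apply Units.ext
    change (v 0 1 * v 2 3) * (v 4 5 * v 6 7) = (v 4 5 * v 6 7) * (v 0 1 * v 2 3)
    have h1 := v_anti (i := 0) (j := 1) (k := 4) (l := 5) (by decide) (by decide) (by decide) (by decide)
    have h2 := v_anti (i := 0) (j := 1) (k := 6) (l := 7) (by decide) (by decide) (by decide) (by decide)
    have h3 := v_anti (i := 2) (j := 3) (k := 4) (l := 5) (by decide) (by decide) (by decide) (by decide)
    have h4 := v_anti (i := 2) (j := 3) (k := 6) (l := 7) (by decide) (by decide) (by decide) (by decide)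
    have hA : v 0 1 * (v 4 5 * v 6 7) = (v 4 5 * v 6 7) * v 0 1 := by
      rw [← mul_assoc, h1, neg_mul, mul_assoc, h2, mul_neg, neg_neg, mul_assoc]
    have hB : v 2 3 * (v 4 5 * v 6 7) = (v 4 5 * v 6 7) * v 2 3 := by
      rw [← mul_assoc, h3, neg_mul, mul_assoc, h4, mul_neg, neg_neg, mul_assoc]
    calc (v 0 1 * v 2 3) * (v 4 5 * v 6 7) = v 0 1 * (v 2 3 * (v 4 5 * v 6 7)) := by
          simp only [mul_assoc]
      _ = v 0 1 * ((v 4 5 * v 6 7) * v 2 3) := by rw [hB]
      _ = (v 0 1 * (v 4 5 * v 6 7)) * v 2 3 := by simp only [mul_assoc]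
      _ = ((v 4 5 * v 6 7) * v 0 1) * v 2 3 := by rw [hA]
      _ = _ := by simp only [mul_assoc]
  · change (swap (0 : Fin 8) 1 * swap 2 3) * (swap 4 5 * swap 6 7) =
      (swap 4 5 * swap 6 7) * (swap (0 : Fin 8) 1 * swap 2 3)
    decide

theorem inv1_sq : inv1 * inv1 = 1 := by
  have h1 := lift2_sq (i := 0) (j := 1) (k := 2) (l := 3) (by decide) (by decide) (by decide)
    (by decide) (by decide) (by decide)
  have h2 := lift2_sq (i := 4) (j := 5) (k := 6) (l := 7) (by decide) (by decide) (by decide)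
    (by decide) (by decide) (by decide)
  have hc := lift2_comm
  rw [inv1]
  calc _ = lift2 0 1 2 3 (by decide) (by decide) * (lift2 4 5 6 7 (by decide) (by decide) *
        lift2 0 1 2 3 (by decide) (by decide)) * lift2 4 5 6 7 (by decide) (by decide) := by
        simp only [mul_assoc]
    _ = lift2 0 1 2 3 (by decide) (by decide) * (lift2 0 1 2 3 (by decide) (by decide) *
        lift2 4 5 6 7 (by decide) (by decide)) * lift2 4 5 6 7 (by decide) (by decide) := by
        rw [hc.eq]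
    _ = (lift2 0 1 2 3 (by decide) (by decide) * lift2 0 1 2 3 (by decide) (by decide)) *
        (lift2 4 5 6 7 (by decide) (by decide) * lift2 4 5 6 7 (by decide) (by decide)) := by
        simp only [mul_assoc]
    _ = 1 := by rw [h1, h2, zeta_sq]

theorem inv1_perm : (inv1 : H).1.2 = swap 0 1 * swap 2 3 * (swap 4 5 * swap 6 7) := rfl

theorem inv1_ne_one : inv1 ≠ 1 := by
  intro h
  have h1 := congrArg (fun p : H => p.1.2) h
  simp only [inv1_perm] at h1
  exact absurd h1 (by decide)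

theorem inv1_zeta_ne_one : inv1 * zeta ≠ 1 := by
  intro h
  have h1 := congrArg (fun p : H => p.1.2) h
  have h2 : (inv1 * zeta : H).1.2 = swap 0 1 * swap 2 3 * (swap 4 5 * swap 6 7) * 1 := rfl
  simp only [h2] at h1
  exact absurd h1 (by decide)

theorem inv1_zeta_sq : (inv1 * zeta) * (inv1 * zeta) = 1 := by
  have hc : zeta * inv1 = inv1 * zeta := ((Subgroup.mem_center_iff.mp zeta_mem_center) inv1).symm
  calc (inv1 * zeta) * (inv1 * zeta) = inv1 * (zeta * inv1) * zeta := by simp only [mul_assoc]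
    _ = inv1 * (inv1 * zeta) * zeta := by rw [hc]
    _ = (inv1 * inv1) * (zeta * zeta) := by simp only [mul_assoc]
    _ = 1 := by rw [inv1_sq, zeta_sq, one_mul]

/-- The second half of the statement: `2·A₈` exists and has two different involutions. -/
theorem exists_cover : ∃ (H' : Type) (_ : Group H') (_ : Finite H'),
    Cfsg.IsNonsplitDoubleCover H' (alternatingGroup (Fin 8)) ∧
      ∃ x y : H', x ≠ y ∧ orderOf x = 2 ∧ orderOf y = 2 := by
  refine ⟨H, inferInstance, inferInstance, ⟨card_center, ?_, not_split⟩, inv1, inv1 * zeta, ?_, ?_, ?_⟩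
  · exact ⟨(QuotientGroup.quotientMulEquivOfEq center_eq_ker).trans
      (QuotientGroup.quotientKerEquivOfSurjective π π_surjective)⟩
  · intro h
    apply zeta_ne_one
    have := mul_left_cancel (a := inv1) (b := 1) (c := zeta) (by rw [mul_one]; exact h)
    exact this.symm
  · have : Fact (Nat.Prime 2) := ⟨Nat.prime_two⟩
    exact orderOf_eq_prime (by rw [pow_two]; exact inv1_sq) inv1_ne_one
  · have : Fact (Nat.Prime 2) := ⟨Nat.prime_two⟩
    exact orderOf_eq_prime (by rw [pow_two]; exact inv1_zeta_sq) inv1_zeta_ne_one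

end Cfsg.Agent.Lib.DoubleCover.TwoA8
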